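import Mathlib

set_option autoImplicit false

namespace Cfsg.Agent.Lib.Helper95.TrZ

open Matrix

variable {n : Type*} [Fintype n] [DecidableEq n] {F : Type*} [Field F]

/-- separating functional, as a dot product -/
theorem exists_dot (p : Submodule F (n → F)) (x : n → F) (hx : x ∉ p) :
    ∃ f : n → F, f ⬝ᵥ x = 1 ∧ ∀ y ∈ p, f ⬝ᵥ y = 0 := by
  obtain ⟨φ, hφx, hφp⟩ := Submodule.exists_le_ker_of_notMem hx
  have key : ∀ y, φ y = (fun i => φ (fun j => if i = j then 1 else 0)) ⬝ᵥ y := by
    intro y
    rw [LinearMap.pi_apply_eq_sum_univ φ y, dotProduct]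
    refine Finset.sum_congr rfl fun i _ => ?_
    rw [smul_eq_mul, mul_comm]
  refine ⟨(φ x)⁻¹ • (fun i => φ (fun j => if i = j then 1 else 0)), ?_, ?_⟩
  · rw [smul_dotProduct, ← key, smul_eq_mul, inv_mul_cancel₀ hφx]
  · intro y hy
    rw [smul_dotProduct, ← key, LinearMap.mem_ker.1 (hφp hy), smul_zero]

/-- `v` is not a multiple of `u`: a functional killing `u` with value `1` at `v`. -/
theorem exists_dot_one (u v : n → F) (h : ∀ a : F, v ≠ a • u) :
    ∃ f : n → F, f ⬝ᵥ u = 0 ∧ f ⬝ᵥ v = 1 := by
  obtain ⟨f, h1, h2⟩ := exists_dot (Submodule.span F {u}) v (by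
    rw [Submodule.mem_span_singleton]
    rintro ⟨a, ha⟩
    exact h a ha.symm)
  exact ⟨f, h2 u (Submodule.mem_span_singleton_self u), h1⟩

/-- in dimension at least three two vectors are killed by a nonzero functional. -/
theorem exists_dot_two (hd : 3 ≤ Fintype.card n) (u v : n → F) :
    ∃ (f y : n → F), f ⬝ᵥ u = 0 ∧ f ⬝ᵥ v = 0 ∧ f ⬝ᵥ y = 1 := by
  classical
  have hlt : Submodule.span F ({u, v} : Set (n → F)) ≠ ⊤ := by
    intro e
    have h1 : Module.finrank F (Submodule.span F ({u, v} : Set (n → F))) ≤ 2 := by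
      have := finrank_span_finset_le_card (R := F) ({u, v} : Finset (n → F))
      have h2 := Finset.card_le_two (a := u) (b := v)
      simp only [Finset.coe_insert, Finset.coe_singleton] at this
      unfold Set.finrank at this
      omega
    rw [e, finrank_top, Module.finrank_fintype_fun_eq_card] at h1
    omega
  obtain ⟨y, hy⟩ : ∃ y, y ∉ Submodule.span F ({u, v} : Set (n → F)) := by
    by_contra hcon
    push Not at hcon
    exact hlt (eq_top_iff.2 fun y _ => hcon y)
  obtain ⟨f, h1, h2⟩ := exists_dot _ y hy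
  exact ⟨f, y, h2 u (Submodule.subset_span (by simp)), h2 v (Submodule.subset_span (by simp)), h1⟩

/-- a matrix all of whose vectors are eigenvectors is scalar. -/
theorem scalar_of_all_eigen (M : Matrix n n F) (h : ∀ w : n → F, ∃ b : F, M *ᵥ w = b • w) :
    ∃ c : F, M = scalar n c := by
  classical
  rcases isEmpty_or_nonempty n with hn | ⟨⟨i0⟩⟩
  · exact ⟨0, Subsingleton.elim _ _⟩
  choose β hβ using h
  have hcol : ∀ i j, M i j = β (Pi.single j 1) * (if i = j then 1 else 0) := by
    intro i j
    have := congrFun (hβ (Pi.single j 1)) i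
    rw [mulVec_single_one] at this
    simp only [Pi.smul_apply, smul_eq_mul, Pi.single_apply] at this
    exact this
  have heq : ∀ j, β (Pi.single j 1) = β (Pi.single i0 1) := by
    intro j
    by_cases hj : j = i0
    · rw [hj]
    have h1 := hβ (Pi.single j 1 + Pi.single i0 1)
    rw [mulVec_add, hβ, hβ] at h1
    have e1 := congrFun h1 j
    have e2 := congrFun h1 i0
    simp only [Pi.add_apply, Pi.smul_apply, smul_eq_mul, Pi.single_apply, if_true,
      if_neg hj, if_neg (Ne.symm hj), mul_one, mul_zero, add_zero, zero_add] at e1 e2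
    rw [e1, e2]
  refine ⟨β (Pi.single i0 1), ?_⟩
  ext i j
  rw [hcol, heq, scalar_apply, diagonal_apply]
  split_ifs <;> simp

end Cfsg.Agent.Lib.Helper95.TrZ
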