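import Mathlib
import Cfsg.Agent.Lib.Helper95.TrZ.Fun

set_option autoImplicit false

namespace Cfsg.Agent.Lib.Helper95.TrZ

open Matrix

variable {n : Type*} [Fintype n] [DecidableEq n] {F : Type*} [Field F]

/-- the transvection `x ↦ x + s f(x) u`. -/
def tv (u f : n → F) (s : F) : Matrix n n F := 1 + s • vecMulVec u f

theorem tv_mulVec (u f : n → F) (s : F) (x : n → F) :
    tv u f s *ᵥ x = x + (s * (f ⬝ᵥ x)) • u := by
  unfold tv
  rw [add_mulVec, one_mulVec, smul_mulVec, vecMulVec_mulVec]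
  ext i
  simp only [Pi.add_apply, Pi.smul_apply, smul_eq_mul, MulOpposite.smul_eq_mul_unop,
    MulOpposite.unop_op]
  ring

theorem sq_zero (u f : n → F) (h : f ⬝ᵥ u = 0) : vecMulVec u f * vecMulVec u f = 0 := by
  rw [vecMulVec_mul_vecMulVec, h, zero_smul]
  ext i j
  simp [vecMulVec_apply]

theorem tv_mul_neg (u f : n → F) (h : f ⬝ᵥ u = 0) (s : F) : tv u f s * tv u f (-s) = 1 := by
  unfold tv
  simp only [add_mul, mul_add, one_mul, mul_one, neg_smul, Matrix.mul_neg, Matrix.smul_mul,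
    Matrix.mul_smul, sq_zero u f h, smul_zero, neg_zero, add_zero]
  abel

theorem det_tv (u f : n → F) (h : f ⬝ᵥ u = 0) (s : F) : (tv u f s).det = 1 := by
  unfold tv
  rw [← smul_vecMulVec, vecMulVec_eq Unit, det_one_add_replicateCol_mul_replicateRow,
    dotProduct_smul, h, smul_zero, add_zero]

theorem trace_conj (A M : Matrix n n F) (u f : n → F) (s : F)
    (h1 : f ⬝ᵥ (A *ᵥ u) = 0) :
    trace (A * (tv u f s * M * tv u f (-s))) =
      trace (A * M) + s * (f ⬝ᵥ (M *ᵥ (A *ᵥ u)) - f ⬝ᵥ (A *ᵥ (M *ᵥ u))) := by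
  set E := vecMulVec u f with hE
  have e1 : trace (A * (E * M)) = f ⬝ᵥ (M *ᵥ (A *ᵥ u)) := by
    rw [← Matrix.mul_assoc, hE, mul_vecMulVec, vecMulVec_mul, trace_vecMulVec, dotProduct_comm,
      ← dotProduct_mulVec]
  have e2 : trace (A * (M * E)) = f ⬝ᵥ (A *ᵥ (M *ᵥ u)) := by
    rw [hE, mul_vecMulVec, mul_vecMulVec, trace_vecMulVec, dotProduct_comm]
  have e3 : trace (A * (E * M * E)) = 0 := by
    rw [Matrix.mul_assoc, ← Matrix.mul_assoc A, hE, mul_vecMulVec, mul_vecMulVec,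
      vecMulVec_mul_vecMulVec, trace_vecMulVec, dotProduct_smul, dotProduct_comm (A *ᵥ u) f, h1,
      smul_zero]
  have hexp : tv u f s * M * tv u f (-s) = M + s • (E * M) - s • (M * E) - (s * s) • (E * M * E) := by
    unfold tv
    rw [← hE]
    simp only [add_mul, mul_add, one_mul, mul_one, neg_smul, Matrix.mul_neg, Matrix.smul_mul,
      Matrix.mul_smul, smul_neg, smul_smul]
    abel
  rw [hexp]
  simp only [mul_add, mul_sub, Matrix.mul_smul, trace_add, trace_sub, trace_smul, e1, e2, e3,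
    smul_eq_mul]
  ring

/-- `S` is closed under conjugation by transvections and `trace (A * M) = 0` does not depend on
`M ∈ S`. -/
structure Hyp (A : Matrix n n F) (S : Set (Matrix n n F)) : Prop where
  closed : ∀ M ∈ S, ∀ (u f : n → F) (s : F), f ⬝ᵥ u = 0 → tv u f s * M * tv u f (-s) ∈ S
  const : (∀ M ∈ S, trace (A * M) = 0) ∨ (∀ M ∈ S, trace (A * M) ≠ 0)

variable {A : Matrix n n F} {S : Set (Matrix n n F)}

theorem Hyp.star (H : Hyp A S) {M : Matrix n n F} (hM : M ∈ S) (u f : n → F) (h0 : f ⬝ᵥ u = 0)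
    (h1 : f ⬝ᵥ (A *ᵥ u) = 0) : f ⬝ᵥ (M *ᵥ (A *ᵥ u)) = f ⬝ᵥ (A *ᵥ (M *ᵥ u)) := by
  by_contra hne
  have hc : f ⬝ᵥ (M *ᵥ (A *ᵥ u)) - f ⬝ᵥ (A *ᵥ (M *ᵥ u)) ≠ 0 := sub_ne_zero.2 hne
  set c := f ⬝ᵥ (M *ᵥ (A *ᵥ u)) - f ⬝ᵥ (A *ᵥ (M *ᵥ u)) with hcdef
  have t0 := trace_conj A M u f (-(trace (A * M)) / c) h1
  have t1 := trace_conj A M u f ((1 - trace (A * M)) / c) h1
  rw [← hcdef, div_mul_cancel₀ _ hc] at t0 t1
  have m0 := H.closed M hM u f (-(trace (A * M)) / c) h0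
  have m1 := H.closed M hM u f ((1 - trace (A * M)) / c) h0
  rcases H.const with hz | hnz
  · have := hz _ m1
    rw [t1] at this
    simp at this
  · apply hnz _ m0
    rw [t0]
    ring

theorem conj_mulVec (M : Matrix n n F) (u f x : n → F) (s : F) :
    (tv u f s * M * tv u f (-s)) *ᵥ x =
      M *ᵥ x - (s * (f ⬝ᵥ x)) • (M *ᵥ u)
        + (s * (f ⬝ᵥ (M *ᵥ x - (s * (f ⬝ᵥ x)) • (M *ᵥ u)))) • u := by
  rw [← mulVec_mulVec, ← mulVec_mulVec, tv_mulVec u f (-s) x, mulVec_add, mulVec_smul, tv_mulVec]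
  have : M *ᵥ x + (-s * f ⬝ᵥ x) • M *ᵥ u = M *ᵥ x - (s * (f ⬝ᵥ x)) • (M *ᵥ u) := by
    rw [neg_mul, neg_smul, sub_eq_add_neg]
  rw [this]

theorem Hyp.K (H : Hyp A S) {u : n → F} (hu : ∀ a : F, A *ᵥ u ≠ a • u) {M : Matrix n n F}
    (hM : M ∈ S) (f : n → F) (h0 : f ⬝ᵥ u = 0) (h1 : f ⬝ᵥ (A *ᵥ u) = 0) :
    f ⬝ᵥ (M *ᵥ u) = 0 := by
  obtain ⟨f', g0, g1⟩ := exists_dot_one u (A *ᵥ u) hu
  have hM' := H.closed M hM u f' 1 g0
  have s1 := H.star hM u f h0 h1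
  have s2 := H.star hM' u f h0 h1
  rw [conj_mulVec, conj_mulVec, g0, g1] at s2
  simp only [mul_one, mul_zero, zero_smul, sub_zero, one_smul, one_mul, mulVec_add, mulVec_smul,
    dotProduct_add, dotProduct_sub, dotProduct_smul, h0, h1, smul_eq_mul, add_zero] at s2
  rw [s1] at s2
  linear_combination -s2

theorem Hyp.eig (hd : 3 ≤ Fintype.card n) (H : Hyp A S) {u : n → F}
    (hu : ∀ a : F, A *ᵥ u ≠ a • u) {M : Matrix n n F} (hM : M ∈ S) :
    ∃ b : F, M *ᵥ u = b • u := by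
  by_contra hne
  push Not at hne
  obtain ⟨f, y, h0, h1, hy⟩ := exists_dot_two hd u (A *ᵥ u)
  obtain ⟨f', g0, g1⟩ := exists_dot_one u (M *ᵥ u) hne
  have k1 := H.K hu hM f h0 h1
  set u' := y - (f' ⬝ᵥ y) • (M *ᵥ u) with hu'
  have gu' : f' ⬝ᵥ u' = 0 := by
    rw [hu', dotProduct_sub, dotProduct_smul, g1, smul_eq_mul, mul_one, sub_self]
  have fu' : f ⬝ᵥ u' = 1 := by
    rw [hu', dotProduct_sub, dotProduct_smul, k1, smul_zero, sub_zero, hy]
  have hM' := H.closed M hM u' f' 1 gu'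
  have k2 := H.K hu hM' f h0 h1
  rw [conj_mulVec, g0] at k2
  simp only [mul_zero, zero_smul, sub_zero, one_mul, g1, one_smul, dotProduct_add, k1, fu',
    zero_add] at k2
  exact one_ne_zero k2

theorem Hyp.all_eig (hd : 3 ≤ Fintype.card n) (H : Hyp A S) {u : n → F}
    (hu : ∀ a : F, A *ᵥ u ≠ a • u) {M : Matrix n n F} (hM : M ∈ S) (w : n → F) :
    ∃ b : F, M *ᵥ w = b • w := by
  obtain ⟨b, hb⟩ := H.eig hd hu hM
  by_cases hw : ∃ a : F, w = a • u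
  · obtain ⟨a, rfl⟩ := hw
    exact ⟨b, by rw [mulVec_smul, hb, smul_comm]⟩
  push Not at hw
  have hu0 : u ≠ 0 := by
    rintro rfl
    exact hu 0 (by simp)
  have hw' : ∀ a : F, u ≠ a • w := by
    intro a e
    by_cases ha : a = 0
    · rw [ha, zero_smul] at e
      exact hu0 e
    · apply hw a⁻¹
      rw [e, smul_smul, inv_mul_cancel₀ ha, one_smul]
  obtain ⟨p1, a1, a2⟩ := exists_dot_one u w hw
  obtain ⟨p2, b1, b2⟩ := exists_dot_one w u hw'
  have gu : (p1 + p2) ⬝ᵥ u = 1 := by rw [add_dotProduct, a1, b2, zero_add]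
  have gw : (p1 + p2) ⬝ᵥ w = 1 := by rw [add_dotProduct, a2, b1, add_zero]
  have g0 : (p1 + p2) ⬝ᵥ (u - w) = 0 := by rw [dotProduct_sub, gu, gw, sub_self]
  have hM' := H.closed M hM (u - w) (p1 + p2) 1 g0
  obtain ⟨c, hc⟩ := H.eig hd hu hM'
  refine ⟨c, ?_⟩
  have e1 : tv (u - w) (p1 + p2) (-1) *ᵥ u = w := by
    rw [tv_mulVec, gu]
    simp
  have e2 : tv (u - w) (p1 + p2) (-1) * tv (u - w) (p1 + p2) 1 = 1 := by
    have := tv_mul_neg (u - w) (p1 + p2) g0 (-1)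
    rwa [neg_neg] at this
  rw [← mulVec_mulVec, ← mulVec_mulVec, e1] at hc
  have := congrArg (fun v => tv (u - w) (p1 + p2) (-1) *ᵥ v) hc
  simp only [mulVec_smul, e1] at this
  rw [mulVec_mulVec, e2, one_mulVec] at this
  exact this

/-- main statement on matrices. -/
theorem core (hd : 3 ≤ Fintype.card n) (H : Hyp A S) (hA : ∀ c : F, A ≠ scalar n c)
    {M : Matrix n n F} (hM : M ∈ S) : ∃ c : F, M = scalar n c := by
  have hex : ∃ u : n → F, ∀ a : F, A *ᵥ u ≠ a • u := by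
    by_contra hcon
    push Not at hcon
    obtain ⟨c, hc⟩ := scalar_of_all_eigen A hcon
    exact hA c hc
  obtain ⟨u, hu⟩ := hex
  exact scalar_of_all_eigen M (H.all_eig hd hu hM)

end Cfsg.Agent.Lib.Helper95.TrZ
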