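import Mathlib
import Cfsg.Agent.Lib.Helper95.TrZ.Core

set_option autoImplicit false

namespace Cfsg.Agent.Lib.Helper95.TrZ

open Matrix

variable {n : Type*} [Fintype n] [DecidableEq n] {F : Type*} [Field F]

local notation "SL" => Matrix.SpecialLinearGroup n F

theorem trace_conj_sl (g X : SL) : trace (g * X * g⁻¹ : SL).1 = trace X.1 := by
  rw [Matrix.SpecialLinearGroup.coe_mul, Matrix.SpecialLinearGroup.coe_mul, trace_mul_comm, ← Matrix.mul_assoc,
    ← Matrix.SpecialLinearGroup.coe_mul, inv_mul_cancel, Matrix.SpecialLinearGroup.coe_one, Matrix.one_mul]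

theorem mem_center_of_scalar (X : SL) (c : F) (h : X.1 = scalar n c) :
    X ∈ Subgroup.center SL := by
  rw [Matrix.SpecialLinearGroup.mem_center_iff]
  refine ⟨c, ?_, h.symm⟩
  have := X.2
  rw [h] at this
  simpa using this

theorem trace_zero_iff [Nonempty n] (X Y : SL)
    (h : IsConj (QuotientGroup.mk X : Matrix.ProjectiveSpecialLinearGroup n F)
      (QuotientGroup.mk Y)) : trace X.1 = 0 ↔ trace Y.1 = 0 := by
  rw [isConj_iff] at h
  obtain ⟨c, hc⟩ := h
  obtain ⟨g, rfl⟩ := QuotientGroup.mk_surjective c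
  have h1 : (QuotientGroup.mk (g * X * g⁻¹) : Matrix.ProjectiveSpecialLinearGroup n F)
      = QuotientGroup.mk Y := hc
  rw [QuotientGroup.eq, Matrix.SpecialLinearGroup.mem_center_iff] at h1
  obtain ⟨r, hr, hr'⟩ := h1
  have hY : Y = (g * X * g⁻¹) * ((g * X * g⁻¹)⁻¹ * Y) := by group
  have hr0 : r ≠ 0 := by
    rintro rfl
    rw [zero_pow Fintype.card_ne_zero] at hr
    exact zero_ne_one hr
  have ht : trace Y.1 = r * trace X.1 := by
    rw [hY, Matrix.SpecialLinearGroup.coe_mul, ← hr', ← trace_conj_sl g X]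
    rw [scalar_apply, ← smul_one_eq_diagonal, Matrix.mul_smul, Matrix.mul_one, trace_smul,
      smul_eq_mul]
  rw [ht]
  constructor
  · intro e
    rw [e, mul_zero]
  · intro e
    exact (mul_eq_zero.1 e).resolve_left hr0

theorem main (hd : 3 ≤ Fintype.card n) (a b : Matrix.ProjectiveSpecialLinearGroup n F)
    (ha : a ≠ 1) (hb : b ≠ 1) :
    ∃ g h : Matrix.ProjectiveSpecialLinearGroup n F,
      ¬ IsConj (a * b) (g * a * g⁻¹ * (h * b * h⁻¹)) := by
  by_contra hcon
  push Not at hcon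
  have hne : Nonempty n := Fintype.card_pos_iff.1 (by omega)
  obtain ⟨A, rfl⟩ := QuotientGroup.mk_surjective a
  obtain ⟨B, rfl⟩ := QuotientGroup.mk_surjective b
  let S : Set (Matrix n n F) := {M | ∃ g : SL, M = (g * B * g⁻¹ : SL).1}
  have hiff : ∀ g : SL, trace (A.1 * B.1) = 0 ↔ trace (A.1 * (g * B * g⁻¹ : SL).1) = 0 := by
    intro g
    have h1 := hcon 1 (QuotientGroup.mk g)
    rw [one_mul, inv_one, mul_one] at h1
    have h2 := trace_zero_iff (A * B) (A * (g * B * g⁻¹)) h1
    rwa [Matrix.SpecialLinearGroup.coe_mul, Matrix.SpecialLinearGroup.coe_mul] at h2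
  have H : Hyp A.1 S := by
    refine ⟨?_, ?_⟩
    · rintro M ⟨g, rfl⟩ u f s hfu
      let T : SL := ⟨tv u f s, det_tv u f hfu s⟩
      let T' : SL := ⟨tv u f (-s), det_tv u f hfu (-s)⟩
      have hTT : T * T' = 1 := by
        apply Subtype.ext
        rw [Matrix.SpecialLinearGroup.coe_mul]
        exact tv_mul_neg u f hfu s
      have hinv : T⁻¹ = T' := inv_eq_of_mul_eq_one_right hTT
      refine ⟨T * g, ?_⟩
      have e : T * g * B * (T * g)⁻¹ = T * (g * B * g⁻¹) * T' := by
        rw [← hinv]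
        group
      rw [e]
      simp only [Matrix.SpecialLinearGroup.coe_mul]
      rfl
    · by_cases h0 : trace (A.1 * B.1) = 0
      · left
        rintro M ⟨g, rfl⟩
        exact (hiff g).1 h0
      · right
        rintro M ⟨g, rfl⟩ e
        exact h0 ((hiff g).2 e)
  have hA : ∀ c : F, A.1 ≠ scalar n c := by
    intro c hc
    apply ha
    exact (QuotientGroup.eq_one_iff A).2 (mem_center_of_scalar A c hc)
  obtain ⟨c, hc⟩ := core hd H hA (M := B.1) ⟨1, by simp⟩
  apply hb
  exact (QuotientGroup.eq_one_iff B).2 (mem_center_of_scalar B c hc)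

end Cfsg.Agent.Lib.Helper95.TrZ
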